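import Groth.Agent.GRec72.Tensor
import Groth.Agent.Amp73.Tensor
import Groth.Prelude.Def_DefoConn
import Groth.Prelude.Def_DefoSh2

/-! The trivial deformation of a connection over the trivial first-order deformation. -/

set_option autoImplicit false
set_option maxHeartbeats 400000
set_option backward.isDefEq.respectTransparency.types false

noncomputable section

universe u

open CategoryTheory Limits AlgebraicGeometry Opposite TopologicalSpace

namespace Groth.Agent.H98DefoConn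

variable {X : Scheme.{u}} {Ω' : X.Modules} {M N : X.Modules}

theorem tmul_add_left (U : X.Opens) (m m' : Γ(M, U)) (n : Γ(Ω', U)) :
    SecTwist.tmul M Ω' U (m + m') n = SecTwist.tmul M Ω' U m n + SecTwist.tmul M Ω' U m' n :=
  Amp73.tm_add_left m m' n

theorem tmul_smul_left (U : X.Opens) (t : Γ(X, U)) (m : Γ(M, U)) (n : Γ(Ω', U)) :
    SecTwist.tmul M Ω' U (t • m) n = t • (SecTwist.tmul M Ω' U m n : Γ(CohB1.tensorMod M Ω', U)) :=
  Amp73.tm_smul_left t m n

theorem tmul_zero_right (U : X.Opens) (m : Γ(M, U)) :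
    (SecTwist.tmul M Ω' U m (0 : Γ(Ω', U)) : Γ(CohB1.tensorMod M Ω', U)) = 0 := by
  have := Amp73.tm_smul_right (L := M) (M := Ω') (0 : Γ(X, U)) m 0
  rwa [zero_smul, zero_smul] at this

theorem tensorMap_add (φ ψ : M ⟶ N) :
    KoszTw.tensorMap (φ + ψ) (𝟙 Ω') = KoszTw.tensorMap φ (𝟙 Ω') + KoszTw.tensorMap ψ (𝟙 Ω') :=
  GRec72.hom_ext_tmul fun U m n => by
    rw [KoszTw.tensorMap_tmul]
    refine Eq.trans ?_ (congrArg₂ (· + ·) (KoszTw.tensorMap_tmul φ (𝟙 Ω') U m n).symm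
      (KoszTw.tensorMap_tmul ψ (𝟙 Ω') U m n).symm)
    exact tmul_add_left U _ _ _

theorem tensorMap_zero : KoszTw.tensorMap (0 : M ⟶ N) (𝟙 Ω') = 0 := by
  have h := tensorMap_add (Ω' := Ω') (0 : M ⟶ N) 0
  rw [add_zero] at h
  exact left_eq_add.mp h

section Smul

variable {k : Type u} [CommRing k] [X.Over (Spec (CommRingCat.of k))]

theorem tensorMap_smul (c : k) (φ : M ⟶ N) :
    KoszTw.tensorMap (c • φ) (𝟙 Ω') = c • KoszTw.tensorMap φ (𝟙 Ω') :=
  GRec72.hom_ext_tmul fun U m n => by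
    rw [KoszTw.tensorMap_tmul, KLin.smul_app_apply, KLin.smul_app_apply]
    refine Eq.trans (tmul_smul_left U _ _ _) ?_
    rw [KoszTw.tensorMap_tmul]
    rfl

theorem der_toGlobal (δ : OmegaSh.Der (X ↘ Spec (CommRingCat.of k)) Ω') (U : X.Opens) (c : k) :
    δ.app U (X.presheaf.map (homOfLE (le_top : U ≤ ⊤)).op (Coh.toGlobal (X ↘ Spec (CommRingCat.of k)) c)) = 0 := by
  have h0 : δ.app ⊤ (Coh.toGlobal (X ↘ Spec (CommRingCat.of k)) c) = 0 :=
    δ.d_app (X := op ⊤) _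
  refine (δ.d_map (X := op ⊤) (Y := op U) (homOfLE (le_top : U ≤ ⊤)).op _).trans ?_
  exact (congrArg _ h0).trans (map_zero _)

end Smul

theorem app_add {A B : X.Modules} (φ ψ : A ⟶ B) (U : X.Opens) (a : Γ(A, U)) :
    (φ + ψ).app U a = φ.app U a + ψ.app U a := rfl

variable {c : Coh.toAb M ⟶ Coh.toAb (CohB1.tensorMod M Ω')}
  {c' : Coh.toAb N ⟶ Coh.toAb (CohB1.tensorMod N Ω')}

theorem horizontal_add {φ ψ : M ⟶ N} (h : ConnSh.IsHorizontal c c' φ) (h' : ConnSh.IsHorizontal c c' ψ) :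
    ConnSh.IsHorizontal c c' (φ + ψ) := fun U e => by
  rw [tensorMap_add]
  refine (map_add (ConnSh.secApp c' U) (φ.app U e) (ψ.app U e)).trans ?_
  exact (congrArg₂ (· + ·) (h U e) (h' U e)).trans rfl

theorem horizontal_smul {k : Type u} [CommRing k] [X.Over (Spec (CommRingCat.of k))]
    {δ : OmegaSh.Der (X ↘ Spec (CommRingCat.of k)) Ω'} (hc' : ConnSh.IsConn δ N c') (a : k)
    {φ : M ⟶ N} (h : ConnSh.IsHorizontal c c' φ) :
    ConnSh.IsHorizontal c c' (a • φ) := fun U e => by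
  rw [tensorMap_smul, KLin.smul_app_apply, KLin.smul_app_apply]
  refine (hc' U _ _).trans ?_
  refine (congrArg₂ (· + ·) (congrArg (HSMul.hSMul _) (h U e))
    ((congrArg (SecTwist.tmul N Ω' U _) (der_toGlobal δ U a)).trans (tmul_zero_right U _))).trans ?_
  exact add_zero _

variable (E : X.Modules) (nabla : Coh.toAb E ⟶ Coh.toAb (CohB1.tensorMod E Ω'))

/-- The connection `∇ ⊕ ∇`. -/
def sumConn : Coh.toAb (E ⊞ E) ⟶ Coh.toAb (CohB1.tensorMod (E ⊞ E) Ω') :=
  (SheafOfModules.toSheaf X.ringCatSheaf).map (biprod.fst : E ⊞ E ⟶ E) ≫ nabla ≫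
      (SheafOfModules.toSheaf X.ringCatSheaf).map (KoszTw.tensorMap (biprod.inl : E ⟶ E ⊞ E) (𝟙 Ω')) +
    (SheafOfModules.toSheaf X.ringCatSheaf).map (biprod.snd : E ⊞ E ⟶ E) ≫ nabla ≫
      (SheafOfModules.toSheaf X.ringCatSheaf).map (KoszTw.tensorMap (biprod.inr : E ⟶ E ⊞ E) (𝟙 Ω'))

theorem secApp_sumConn (U : X.Opens) (e : Γ(E ⊞ E, U)) :
    ConnSh.secApp (sumConn E nabla) U e =
      (KoszTw.tensorMap (biprod.inl : E ⟶ E ⊞ E) (𝟙 Ω')).app U
          (ConnSh.secApp nabla U ((biprod.fst : E ⊞ E ⟶ E).app U e)) +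
        (KoszTw.tensorMap (biprod.inr : E ⟶ E ⊞ E) (𝟙 Ω')).app U
          (ConnSh.secApp nabla U ((biprod.snd : E ⊞ E ⟶ E).app U e)) := rfl

theorem app_comp_apply {A B C : X.Modules} (φ : A ⟶ B) (ψ : B ⟶ C) (U : X.Opens) (a : Γ(A, U)) :
    ψ.app U (φ.app U a) = (φ ≫ ψ).app U a := rfl

theorem tensorMap_comp_id {A B C : X.Modules} (φ : A ⟶ B) (ψ : B ⟶ C) :
    KoszTw.tensorMap φ (𝟙 Ω') ≫ KoszTw.tensorMap ψ (𝟙 Ω') = KoszTw.tensorMap (φ ≫ ψ) (𝟙 Ω') := by
  rw [← KoszTw.tensorMap_comp, Category.id_comp]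

theorem fst_horizontal : ConnSh.IsHorizontal (sumConn E nabla) nabla (biprod.fst : E ⊞ E ⟶ E) := fun U e => by
  rw [secApp_sumConn, map_add, app_comp_apply, app_comp_apply, tensorMap_comp_id, tensorMap_comp_id,
    biprod.inl_fst, biprod.inr_fst, KoszTw.tensorMap_id, tensorMap_zero]
  exact (add_zero _).symm

theorem snd_horizontal : ConnSh.IsHorizontal (sumConn E nabla) nabla (biprod.snd : E ⊞ E ⟶ E) := fun U e => by
  rw [secApp_sumConn, map_add, app_comp_apply, app_comp_apply, tensorMap_comp_id, tensorMap_comp_id,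
    biprod.inl_snd, biprod.inr_snd, KoszTw.tensorMap_id, tensorMap_zero]
  exact (zero_add _).symm

theorem inr_horizontal : ConnSh.IsHorizontal nabla (sumConn E nabla) (biprod.inr : E ⟶ E ⊞ E) := fun U e => by
  rw [secApp_sumConn, app_comp_apply (biprod.inr : E ⟶ E ⊞ E) biprod.fst,
    app_comp_apply (biprod.inr : E ⟶ E ⊞ E) biprod.snd, biprod.inr_fst, biprod.inr_snd]
  refine (congrArg₂ (· + ·) ((congrArg _ (map_zero (ConnSh.secApp nabla U))).trans (map_zero _)) rfl).trans ?_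
  exact (zero_add _).trans rfl

variable {k : Type u} [Field k] [X.Over (Spec (CommRingCat.of k))]
  {δ : OmegaSh.Der (X ↘ Spec (CommRingCat.of k)) Ω'}

theorem tensorMap_app_leibniz (hn : ConnSh.IsConn δ E nabla) (π : E ⊞ E ⟶ E) (φ : E ⟶ E ⊞ E)
    (U : X.Opens) (t : Γ(X, U)) (e : Γ(E ⊞ E, U)) :
    (KoszTw.tensorMap φ (𝟙 Ω')).app U (ConnSh.secApp nabla U (π.app U (t • e))) =
      t • ((KoszTw.tensorMap φ (𝟙 Ω')).app U (ConnSh.secApp nabla U (π.app U e)) :
          Γ(CohB1.tensorMod (E ⊞ E) Ω', U)) +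
        Amp73.tm (E ⊞ E) Ω' ((π ≫ φ).app U e) (δ.app U t) := by
  rw [Scheme.Modules.Hom.app_smul]
  refine (congrArg _ (hn U t (π.app U e))).trans ?_
  refine (map_add _ _ _).trans (congrArg₂ (· + ·) ?_ ?_)
  · exact Scheme.Modules.Hom.app_smul _ _ _
  · exact KoszTw.tensorMap_tmul _ _ U _ _

theorem isConn_sumConn (hn : ConnSh.IsConn δ E nabla) :
    ConnSh.IsConn δ (E ⊞ E) (sumConn E nabla) := fun U t e => by
  refine (secApp_sumConn E nabla U (t • e)).trans ?_
  refine (congrArg₂ (fun a b : Γ(CohB1.tensorMod (E ⊞ E) Ω', U) => a + b) (tensorMap_app_leibniz E nabla hn biprod.fst biprod.inl U t e)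
    (tensorMap_app_leibniz E nabla hn biprod.snd biprod.inr U t e)).trans ?_
  refine (add_add_add_comm _ _ _ _).trans (congrArg₂ (· + ·) (smul_add _ _ _).symm ?_)
  refine (tmul_add_left U _ _ _).symm.trans ?_
  rw [← app_add, biprod.total]
  rfl

theorem act_horizontal (hn : ConnSh.IsConn δ E nabla) (z : DualNumber k) :
    ConnSh.IsHorizontal (sumConn E nabla) (sumConn E nabla) (DefoSh.dualAct k E z : E ⊞ E ⟶ E ⊞ E) := by
  rw [DefoSh.dualAct_hom]
  exact horizontal_add (horizontal_smul (isConn_sumConn E nabla hn) _ (DefoSh.isHorizontal_id _))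
    (horizontal_smul (isConn_sumConn E nabla hn) _
      (DefoSh.isHorizontal_comp (fst_horizontal E nabla) (inr_horizontal E nabla)))

/-- `∇ ⊕ ∇` deforms `∇`. -/
def trivConn (hn : ConnSh.IsConn δ E nabla) :
    DefoSh.DefoConn δ nabla (DefoSh.Defo.trivDual k E) where
  conn := sumConn E nabla
  isConn := isConn_sumConn E nabla hn
  act_horizontal := act_horizontal E nabla hn
  π_horizontal := fst_horizontal E nabla

end Groth.Agent.H98DefoConn

end
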