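import Groth.Agent.H98DefoConn.Torsor
import Groth.Agent.An92.ExtOne
import Groth.Agent.PtsDesc95.Ext
import Mathlib.RingTheory.Flat.Tensor

/-! First-order deformations and self-extensions. -/

set_option autoImplicit false
set_option maxHeartbeats 400000
set_option backward.isDefEq.respectTransparency.types false

noncomputable section

universe u

open CategoryTheory Limits AlgebraicGeometry Opposite TopologicalSpace TensorProduct ArtFun ArtFun.Art
open CategoryTheory.Abelian

namespace Groth.Agent.H98DefoConn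

open Groth.Agent.QC70

variable {k : Type u} [Field k]

theorem flat_of_ker_eps {V : Type u} [AddCommGroup V] [Module (DualNumber k) V]
    (h : ∀ v : V, (DualNumber.eps : DualNumber k) • v = 0 →
      ∃ w : V, (DualNumber.eps : DualNumber k) • w = v) :
    Module.Flat (DualNumber k) V := by
  rw [Module.Flat.iff_rTensor_injective']
  intro I
  obtain ⟨g, hg, hgen, hgv⟩ : ∃ g : DualNumber k, ∃ _ : g ∈ I, (∀ x ∈ I, ∃ c, x = c * g) ∧
      ∀ v : V, g • v = 0 → ∃ (w : V) (d : DualNumber k), d • w = v ∧ d * g = 0 := by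
    by_cases h0 : ∀ x ∈ I, x = 0
    · exact ⟨0, I.zero_mem, fun x hx => ⟨0, by rw [h0 x hx, mul_zero]⟩,
        fun v _ => ⟨v, 1, one_smul _ v, mul_zero _⟩⟩
    by_cases hI : I = ⊤
    · exact ⟨1, hI ▸ Submodule.mem_top, fun x _ => ⟨x, (mul_one x).symm⟩,
        fun v hv => ⟨0, 0, by rw [zero_smul]; rw [one_smul] at hv; exact hv.symm, zero_mul _⟩⟩
    push Not at h0
    obtain ⟨x₀, hx₀, hne⟩ := h0
    have hu : ∀ x ∈ I, x.fst = 0 := fun x hx => by
      by_contra hx0
      exact hI (I.eq_top_of_isUnit_mem hx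
        (TrivSqZeroExt.isUnit_iff_isUnit_fst.2 (isUnit_iff_ne_zero.2 hx0)))
    have hc : x₀.snd ≠ 0 := fun h' => hne (TrivSqZeroExt.ext (hu x₀ hx₀) h')
    refine ⟨DualNumber.eps, ?_, fun x hx => ⟨_, (eq_eps_mul (hu x hx)).trans (mul_comm _ _)⟩,
      fun v hv => ?_⟩
    · have e : (DualNumber.eps : DualNumber k) = algebraMap k (DualNumber k) x₀.snd⁻¹ * x₀ := by
        refine Eq.trans ?_ (congrArg _ (eq_eps_mul (hu x₀ hx₀)).symm)
        rw [mul_left_comm, ← map_mul, inv_mul_cancel₀ hc, map_one, mul_one]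
      exact e ▸ I.mul_mem_left _ hx₀
    · obtain ⟨w, hw⟩ := h v hv
      exact ⟨w, _, hw, DualNumber.eps_mul_eps⟩
  refine (injective_iff_map_eq_zero _).2 fun t ht => ?_
  have hsurj : ∀ t : I ⊗[DualNumber k] V, ∃ v : V, t = (⟨g, hg⟩ : I) ⊗ₜ[DualNumber k] v := by
    intro t
    induction t using TensorProduct.induction_on with
    | zero => exact ⟨0, by rw [tmul_zero]⟩
    | tmul x w =>
      obtain ⟨c, hc⟩ := hgen x x.2
      refine ⟨c • w, ?_⟩
      rw [← smul_tmul]
      congr 1
      exact Subtype.ext hc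
    | add a b ha hb =>
      obtain ⟨v, rfl⟩ := ha
      obtain ⟨v', rfl⟩ := hb
      exact ⟨v + v', (tmul_add _ _ _).symm⟩
  obtain ⟨v, rfl⟩ := hsurj t
  have h1 := congrArg (TensorProduct.lid (DualNumber k) V) ht
  rw [LinearMap.rTensor_tmul, lid_tmul, map_zero] at h1
  obtain ⟨w, d, rfl, hd⟩ := hgv v h1
  rw [← smul_tmul, show d • (⟨g, hg⟩ : I) = 0 from Subtype.ext hd, zero_tmul]

variable {X : Scheme.{u}} [X.Over (Spec (CommRingCat.of k))] {E : X.Modules}

section OfExt

variable {M : X.Modules} {i : E ⟶ M} {q : M ⟶ E} (hiq : i ≫ q = 0)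

/-- The action of `k[ε]` on an extension: `ε` is `i ∘ q`. -/
def extAct : DualNumber k →ₐ[k] End M :=
  DualNumber.lift ⟨(Algebra.ofId k (End M), (q ≫ i : M ⟶ M)),
    (show (q ≫ i) ≫ q ≫ i = 0 by rw [Category.assoc, reassoc_of% hiq, zero_comp, comp_zero]),
    fun a => (Algebra.commutes a _).symm⟩

theorem extAct_eps : (extAct hiq (k := k) (DualNumber.eps : DualNumber k) : M ⟶ M) = q ≫ i :=
  DualNumber.lift_apply_eps _

theorem extAct_q {a : DualNumber k} (ha : a.fst = 0) :
    (extAct hiq a : M ⟶ M) ≫ q = 0 := by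
  have e : (extAct hiq a : M ⟶ M) = a.snd • (q ≫ i) := by
    conv_lhs => rw [eq_fst_add_snd a, ha]
    rw [map_zero, zero_add]
    exact (map_smul (extAct hiq) a.snd _).trans (congrArg (a.snd • ·) (extAct_eps hiq))
  rw [e, Linear.smul_comp, Category.assoc, hiq, comp_zero, smul_zero]

variable (hS : (ShortComplex.mk i q hiq).ShortExact)

/-- The deformation defined by an extension. -/
def defoOfExt : DefoSh.Defo E (dual k k) where
  sheaf := M
  act := extAct hiq
  π := q
  act_π a ha := extAct_q hiq ha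
  surj p := by
    haveI : Epi q := hS.epi_g
    exact surjective_stalkMapM_of_epi q p
  ker_le p v hv := by
    letI : Module (dual k k) ↑(M.presheaf.stalk p) :=
      DefoSh.stalkModule (A := dual k k) M (extAct hiq).toRingHom p
    haveI : Mono i := hS.mono_f
    haveI : Epi q := hS.epi_g
    obtain ⟨e, he⟩ := stalkMapM_exact _ hS.exact p v hv
    obtain ⟨w, rfl⟩ := surjective_stalkMapM_of_epi q p e
    let ε : (dual k k) := (DualNumber.eps : DualNumber k)
    have hε : ε ∈ IsLocalRing.maximalIdeal (dual k k) := by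
      rw [Art.mem_maximalIdeal_iff]
      rfl
    have hv' : v = RefHull.stalkMapₗ (extAct hiq (DualNumber.eps : DualNumber k) : M ⟶ M) p w := by
      rw [extAct_eps]
      exact he.symm.trans (stalkMap_comp q i p w).symm
    rw [hv']
    exact Submodule.smul_mem_smul (N := (⊤ : Submodule (dual k k : Type u) ↑(M.presheaf.stalk p)))
      hε (Submodule.mem_top (x := w))
  flat p := by
    letI m : Module (DualNumber k) ↑(M.presheaf.stalk p) :=
      DefoSh.stalkModule (A := DualNumber k) M (extAct hiq).toRingHom p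
    haveI : Mono i := hS.mono_f
    haveI : Epi q := hS.epi_g
    refine @flat_of_ker_eps k _ _ _ m fun v hv => ?_
    change RefHull.stalkMapₗ (extAct hiq (DualNumber.eps : DualNumber k) : M ⟶ M) p v = 0 at hv
    rw [extAct_eps] at hv
    have h1 : stalkMapM q p v = 0 := by
      refine injective_stalkMapM_of_mono i p ?_
      rw [← stalkMap_comp]
      exact hv.trans (map_zero (RefHull.stalkMapₗ i p)).symm
    obtain ⟨e, he⟩ := stalkMapM_exact _ hS.exact p v h1
    obtain ⟨w, rfl⟩ := surjective_stalkMapM_of_epi q p e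
    refine ⟨w, ?_⟩
    change RefHull.stalkMapₗ (extAct hiq (DualNumber.eps : DualNumber k) : M ⟶ M) p w = v
    rw [extAct_eps]
    exact (stalkMap_comp q i p w).trans he

theorem defoOfExt_ι :
    (defoOfExt (k := k) hiq hS).π ≫ i =
      (defoOfExt (k := k) hiq hS).act (DualNumber.eps : DualNumber k) :=
  (extAct_eps hiq).symm

end OfExt

variable [HasExt.{u} X.Modules]

/-- The extension class of a first-order deformation. -/
def defoClass (D : DefoSh.Defo E (dual k k)) : Ext.{u} E E 1 :=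
  (shortExact_seq D (exists_ι D).choose (exists_ι D).choose_spec).extClass

theorem defoClass_eq (D : DefoSh.Defo E (dual k k)) (i : E ⟶ D.sheaf)
    (hi : D.π ≫ i = D.act (DualNumber.eps : DualNumber k)) (h0 : i ≫ D.π = 0)
    (hS : (ShortComplex.mk i D.π h0).ShortExact) : defoClass D = hS.extClass := by
  haveI := epi_π D
  obtain rfl : i = (exists_ι D).choose :=
    (cancel_epi D.π).1 (hi.trans (exists_ι D).choose_spec.symm)
  rfl

theorem defoClass_congr {D D' : DefoSh.Defo E (dual k k)} (e : DefoSh.Defo.Iso D D') :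
    defoClass D = defoClass D' := by
  haveI := epi_π D
  obtain ⟨ι, hι⟩ := exists_ι D
  obtain ⟨ι', hι'⟩ := exists_ι D'
  rw [defoClass_eq D ι hι (ι_π D ι hι) (shortExact_seq D ι hι),
    defoClass_eq D' ι' hι' (ι_π D' ι' hι') (shortExact_seq D' ι' hι')]
  have h : ι ≫ e.iso.hom = ι' := by
    rw [← cancel_epi D.π, reassoc_of% hι]
    refine (e.act_hom _).trans ?_
    rw [← hι', ← Category.assoc, e.hom_π]
  have := ShortComplex.ShortExact.extClass_naturality (shortExact_seq D ι hι) (shortExact_seq D' ι' hι')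
    (ShortComplex.homMk (𝟙 E) e.iso.hom (𝟙 E) (by simp [h]) (by simp [e.hom_π]))
  simpa using this

theorem iso_of_defoClass_eq {D D' : DefoSh.Defo E (dual k k)} (h : defoClass D = defoClass D') :
    Nonempty (DefoSh.Defo.Iso D D') := by
  obtain ⟨ι, hι⟩ := exists_ι D
  obtain ⟨ι', hι'⟩ := exists_ι D'
  rw [defoClass_eq D ι hι (ι_π D ι hι) (shortExact_seq D ι hι),
    defoClass_eq D' ι' hι' (ι_π D' ι' hι') (shortExact_seq D' ι' hι')] at h
  obtain ⟨g, hg, h1, h2⟩ := PtsDesc95.exists_iso_of_extClass_eq ι D.π ι' D'.π _ _ _ _ h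
  refine ⟨⟨asIso g, fun (a : DualNumber k) => ?_, h2⟩⟩
  change actHom D a ≫ g = g ≫ actHom D' a
  rw [act_eq hι a, act_eq hι' a, Preadditive.add_comp, Preadditive.comp_add]
  simp only [Linear.smul_comp, Linear.comp_smul, Category.id_comp, Category.comp_id, Category.assoc,
    h1, reassoc_of% h2]

theorem defoClass_surjective (x : Ext.{u} E E 1) : ∃ D : DefoSh.Defo E (dual k k), defoClass D = x := by
  obtain ⟨M, i, q, hiq, hS, hx⟩ := An92.ExtOne.exists_extClass_eq x
  refine ⟨defoOfExt (k := k) hiq hS, ?_⟩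
  refine Eq.trans ?_ hx
  exact defoClass_eq (defoOfExt (k := k) hiq hS) i (defoOfExt_ι (k := k) hiq hS) hiq hS

theorem defoClass_trivDual : defoClass (DefoSh.Defo.trivDual k E) = 0 := by
  have hi : (DefoSh.Defo.trivDual k E).π ≫ (biprod.inr : E ⟶ E ⊞ E) =
      (DefoSh.Defo.trivDual k E).act (DualNumber.eps : DualNumber k) := (DefoSh.dualAct_eps E).symm
  have hS := shortExact_seq (DefoSh.Defo.trivDual k E) biprod.inr hi
  rw [defoClass_eq (DefoSh.Defo.trivDual k E) biprod.inr hi _ hS]
  have h : (biprod.inl : E ⟶ E ⊞ E) ≫ (DefoSh.Defo.trivDual k E).π = 𝟙 E := biprod.inl_fst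
  rw [← Ext.mk₀_id_comp hS.extClass, ← h, ← Ext.mk₀_comp_mk₀]
  rw [Ext.comp_assoc_of_second_deg_zero]
  exact (congrArg (fun y => (Ext.mk₀ (biprod.inl : E ⟶ E ⊞ E)).comp y (zero_add 1))
    hS.comp_extClass).trans (Ext.comp_zero _ _ _ _ _)

variable (k E) in
/-- First-order deformations are self-extensions. -/
def firstOrderEquiv : DefoSh.FirstOrder k E ≃ Ext.{u} E E 1 :=
  Equiv.ofBijective (Quotient.lift defoClass fun _ _ ⟨e⟩ => defoClass_congr e)
    ⟨fun a b => Quotient.inductionOn₂ a b fun _ _ h => Quotient.sound (iso_of_defoClass_eq h),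
      fun x => (defoClass_surjective x).elim fun D hD => ⟨D.cl, hD⟩⟩

end Groth.Agent.H98DefoConn

end
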