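import Groth.Agent.H98DefoConn.Torsor
import Groth.Agent.QC70.ExtCoh
import Groth.Agent.ZClos93.Exact
import Groth.Agent.QC70.HomLocFree

/-! First-order deformations of a vector bundle are locally trivial. -/

set_option autoImplicit false
set_option maxHeartbeats 400000
set_option backward.isDefEq.respectTransparency.types false

noncomputable section

universe u

open CategoryTheory Limits AlgebraicGeometry Opposite TopologicalSpace ArtFun ArtFun.Art

namespace Groth.Agent.H98DefoConn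

open Groth.Agent.QC70

variable {X : Scheme.{u}}

theorem exists_local_section {A N : X.Modules} (hA : FlatMod.IsFinLocFree A) (g : N ⟶ A) [Epi g] (x : X) :
    ∃ (W : X.Opens) (s : HomOn A N W), x ∈ W ∧
      s.comp (HomOn.ofHom g W) = HomOn.ofHom (𝟙 A) W := by
  haveI := epi_homMap hA g
  obtain ⟨e, he⟩ := surjective_stalkMapM_of_epi (homMap A g) x
    (germM (homMod A A) ⊤ x trivial (HomOn.ofHom (𝟙 A) ⊤).toSec)
  obtain ⟨W₀, hxW₀, φ, rfl⟩ := germM_exist e
  rw [stalkMapM_germ] at he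
  obtain ⟨W, hxW, i₁, i₂, h⟩ := TopCat.Presheaf.germ_eq (homMod A A).presheaf x hxW₀ (show x ∈ (⊤ : X.Opens) from trivial) _ _ he
  refine ⟨W, (ofSec φ).mono i₁.le, hxW, HomOn.ext' fun V hV t => ?_⟩
  exact congrArg (fun ψ : Γ(homMod A A, W) => (ofSec ψ).app V hV t) h

theorem toRestrictHom_comp_right {M N N' : X.Modules} {U : X.Opens} (φ : HomOn M N U) (β : N ⟶ N') :
    (φ.comp (HomOn.ofHom β U)).toRestrictHom =
      φ.toRestrictHom ≫ (Scheme.Modules.restrictFunctor U.ι).map β :=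
  Scheme.Modules.hom_ext _ _ fun W => by
    ext s
    rfl

theorem toRestrictHom_ofHom_id {M : X.Modules} {U : X.Opens} :
    (HomOn.ofHom (𝟙 M) U).toRestrictHom = 𝟙 (M.restrict U.ι) :=
  Scheme.Modules.hom_ext _ _ fun W => by
    ext s
    rfl

variable {k : Type u} [Field k] [X.Over (Spec (CommRingCat.of k))]

theorem smul_comm_toRestrictHom {M N : X.Modules} {U : X.Opens} (φ : HomOn M N U) (c : k) :
    φ.toRestrictHom ≫ (Scheme.Modules.restrictFunctor U.ι).map (c • 𝟙 N) =
      (Scheme.Modules.restrictFunctor U.ι).map (c • 𝟙 M) ≫ φ.toRestrictHom := by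
  rw [← toRestrictHom_comp_right, ← HomOn.toRestrictHom_comp]
  refine congrArg HomOn.toRestrictHom (HomOn.ext' fun V hV t => ?_)
  change (c • 𝟙 N).app V (φ.app V hV t) = φ.app V hV ((c • 𝟙 M).app V t)
  rw [KLin.smul_app_apply, KLin.smul_app_apply]
  exact (map_smul (φ.app V hV) _ t).symm

theorem exists_trivialization {E : X.Modules} (hE : FlatMod.IsFinLocFree E)
    (D : DefoSh.Defo E (dual k k)) (x : X) :
    ∃ (U : X.Opens) (e : D.sheaf.restrict U.ι ≅ (DefoSh.Defo.trivDual k E).sheaf.restrict U.ι), x ∈ U ∧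
      e.hom ≫ (Scheme.Modules.restrictFunctor U.ι).map (DefoSh.Defo.trivDual k E).π =
        (Scheme.Modules.restrictFunctor U.ι).map D.π ∧
      ∀ a : dual k k, (Scheme.Modules.restrictFunctor U.ι).map (D.act a) ≫ e.hom =
        e.hom ≫ (Scheme.Modules.restrictFunctor U.ι).map ((DefoSh.Defo.trivDual k E).act a) := by
  haveI := epi_π D
  obtain ⟨U, s₀, hxU, hs₀⟩ := exists_local_section hE D.π x
  let R := Scheme.Modules.restrictFunctor U.ι
  haveI : PreservesColimitsOfSize.{0, 0} R :=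
    (Scheme.Modules.restrictAdjunction U.ι).leftAdjoint_preservesColimits
  haveI := preservesBinaryBiproducts_of_preservesBinaryCoproducts R
  haveI : R.Additive := Functor.additive_of_preservesBinaryBiproducts _
  haveI : PreservesFiniteLimits R := ZClos93.preservesFiniteLimits_restrictFunctor U.ι
  haveI : PreservesFiniteColimits R := inferInstance
  obtain ⟨ι, hι⟩ : ∃ ι : E ⟶ D.sheaf, D.π ≫ ι = D.act (DualNumber.eps : DualNumber k) :=
    exists_ι D
  have hS := shortExact_seq D ι hι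
  have hR := hS.map_of_exact R
  let s : R.obj E ⟶ R.obj D.sheaf := s₀.toRestrictHom
  have hs : s ≫ R.map D.π = 𝟙 (R.obj E) :=
    (toRestrictHom_comp_right s₀ D.π).symm.trans ((congrArg _ hs₀).trans toRestrictHom_ofHom_id)
  haveI hm : Mono ((seq D ι hι).map R).f := hR.mono_f
  haveI hm' : Mono (R.map ι) := hR.mono_f
  have h3 : R.map ι ≫ R.map D.π = 0 := by rw [← R.map_comp, ι_π D ι hι, R.map_zero]
  have hk : (𝟙 _ - R.map D.π ≫ s) ≫ R.map D.π = 0 := by
    rw [Preadditive.sub_comp, Category.assoc, hs, Category.comp_id, Category.id_comp, sub_self]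
  obtain ⟨r, hr⟩ : ∃ r : R.obj D.sheaf ⟶ R.obj E, r ≫ R.map ι = 𝟙 _ - R.map D.π ≫ s :=
    ⟨hR.exact.lift _ hk, hR.exact.lift_f _ hk⟩
  have h1 : s ≫ r = 0 := by
    rw [← cancel_mono (R.map ι), Category.assoc, hr, Preadditive.comp_sub, reassoc_of% hs,
      Category.comp_id, sub_self, zero_comp]
  have h2 : R.map ι ≫ r = 𝟙 _ := by
    rw [← cancel_mono (R.map ι), Category.assoc, hr, Preadditive.comp_sub, reassoc_of% h3,
      zero_comp, Category.comp_id, sub_zero, Category.id_comp]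
  let e : R.obj D.sheaf ≅ R.obj (E ⊞ E) :=
    { hom := R.map D.π ≫ R.map (biprod.inl : E ⟶ E ⊞ E) + r ≫ R.map (biprod.inr : E ⟶ E ⊞ E)
      inv := R.map (biprod.fst : E ⊞ E ⟶ E) ≫ s + R.map (biprod.snd : E ⊞ E ⟶ E) ≫ R.map ι
      hom_inv_id := by
        simp only [Preadditive.add_comp, Preadditive.comp_add, Category.assoc]
        rw [← R.map_comp_assoc (biprod.inl : E ⟶ E ⊞ E), ← R.map_comp_assoc (biprod.inl : E ⟶ E ⊞ E),
          ← R.map_comp_assoc (biprod.inr : E ⟶ E ⊞ E), ← R.map_comp_assoc (biprod.inr : E ⟶ E ⊞ E),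
          biprod.inl_fst, biprod.inl_snd, biprod.inr_fst, biprod.inr_snd]
        simp only [Functor.map_id, Functor.map_zero, zero_comp, comp_zero, Category.id_comp,
          add_zero, zero_add]
        erw [R.map_id E]
        erw [Category.id_comp, Category.id_comp]
        rw [hr, add_sub_cancel]
      inv_hom_id := by
        simp only [Preadditive.add_comp, Preadditive.comp_add, Category.assoc]
        rw [reassoc_of% hs, reassoc_of% h1, reassoc_of% h2, reassoc_of% h3]
        simp only [zero_comp, comp_zero, add_zero, zero_add, ← Functor.map_comp, ← Functor.map_add,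
          biprod.total]
        exact R.map_id _ }
  refine ⟨U, e, hxU, ?_, fun (a : DualNumber k) => ?_⟩
  · change (R.map D.π ≫ R.map (biprod.inl : E ⟶ E ⊞ E) + r ≫ R.map (biprod.inr : E ⟶ E ⊞ E)) ≫
      R.map (biprod.fst : E ⊞ E ⟶ E) = R.map D.π
    rw [Preadditive.add_comp, Category.assoc, Category.assoc, ← R.map_comp (biprod.inl : E ⟶ E ⊞ E),
      ← R.map_comp (biprod.inr : E ⟶ E ⊞ E), biprod.inl_fst, biprod.inr_fst, R.map_id, R.map_zero,
      comp_zero, add_zero, Category.comp_id]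
  · change R.map (actHom D a) ≫ e.hom = e.hom ≫ R.map (DefoSh.dualAct k E a : E ⊞ E ⟶ E ⊞ E)
    refine (Iso.inv_comp_eq e).1 ?_
    rw [← Category.assoc]
    refine ((Iso.comp_inv_eq e).1 ?_).symm
    symm
    change (R.map (biprod.fst : E ⊞ E ⟶ E) ≫ s + R.map (biprod.snd : E ⊞ E ⟶ E) ≫ R.map ι) ≫
        R.map (actHom D a) =
      R.map (DefoSh.dualAct k E a : E ⊞ E ⟶ E ⊞ E) ≫
        (R.map (biprod.fst : E ⊞ E ⟶ E) ≫ s + R.map (biprod.snd : E ⊞ E ⟶ E) ≫ R.map ι)
    have hact : actHom D a =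
        a.fst • 𝟙 D.sheaf + D.π ≫ (a.snd • ι) :=
      act_eq hι a
    have hF : (DefoSh.dualAct k E a : E ⊞ E ⟶ E ⊞ E) ≫ (biprod.fst : E ⊞ E ⟶ E) =
        (biprod.fst : E ⊞ E ⟶ E) ≫ (a.fst • 𝟙 E) := by
      rw [DefoSh.dualAct_hom]
      refine (Preadditive.add_comp _ _ _ _ _ _).trans ?_
      erw [Linear.smul_comp, Linear.smul_comp]
      rw [Category.id_comp, Category.assoc, biprod.inr_fst, comp_zero, smul_zero, add_zero]
      simp [Linear.comp_smul]
    have hG : (DefoSh.dualAct k E a : E ⊞ E ⟶ E ⊞ E) ≫ (biprod.snd : E ⊞ E ⟶ E) ≫ ι =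
        (biprod.fst : E ⊞ E ⟶ E) ≫ (a.snd • ι) +
          (biprod.snd : E ⊞ E ⟶ E) ≫ ι ≫ actHom D a := by
      rw [DefoSh.dualAct_hom, ι_act hι]
      refine (Preadditive.add_comp _ _ _ _ _ _).trans ?_
      erw [Linear.smul_comp, Linear.smul_comp]
      rw [Category.id_comp, Category.assoc, biprod.inr_snd_assoc]
      simp only [Linear.comp_smul]
      exact add_comm _ _
    have hcomm : s ≫ R.map (a.fst • 𝟙 D.sheaf) = R.map (a.fst • 𝟙 E) ≫ s :=
      smul_comm_toRestrictHom s₀ (k := k) a.fst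
    rw [Preadditive.add_comp, Preadditive.comp_add, ← R.map_comp_assoc _ (biprod.fst : E ⊞ E ⟶ E),
      hF, ← R.map_comp (biprod.snd : E ⊞ E ⟶ E), ← R.map_comp, ← R.map_comp, hG, R.map_add,
      Category.assoc]
    conv_lhs => rw [hact, R.map_add, Preadditive.comp_add, Preadditive.comp_add,
      R.map_comp D.π, reassoc_of% hs, hcomm]
    rw [R.map_comp_assoc, R.map_comp (biprod.fst : E ⊞ E ⟶ E), Category.assoc (biprod.snd : E ⊞ E ⟶ E)]
    rw [← hact]
    exact add_assoc _ _ _

end Groth.Agent.H98DefoConn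

end
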