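import Groth.Agent.H98DefoConn.Basic
import Groth.Agent.KRR40.Pull
import Groth.Agent.DCK91.StalkTensorNat
import Groth.Agent.FDesc60.FlatFree
import Mathlib.RingTheory.Flat.EquationalCriterion
import Mathlib.RingTheory.DualNumber

/-! The short exact sequence of a first-order deformation, and its tensor product with a module. -/

set_option autoImplicit false
set_option maxHeartbeats 400000
set_option backward.isDefEq.respectTransparency.types false

noncomputable section

universe u

open CategoryTheory Limits AlgebraicGeometry Opposite TopologicalSpace TensorProduct ArtFun ArtFun.Art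

namespace Groth.Agent.H98DefoConn

open Groth.Agent.DCK91 Groth.Agent.QC70

variable {k : Type u} [Field k] {X : Scheme.{u}} [X.Over (Spec (CommRingCat.of k))]
  {E : X.Modules} (D : DefoSh.Defo E (dual k k)) (ι : E ⟶ D.sheaf)

theorem stalkMap_comp {M N P : X.Modules} (φ : M ⟶ N) (ψ : N ⟶ P) (x : X) (v : M.presheaf.stalk x) :
    stalkMapM (φ ≫ ψ) x v = stalkMapM ψ x (stalkMapM φ x v) :=
  stalkMapM_comp φ ψ x v

theorem epi_π : Epi D.π := epi_of_surjective_stalkMapM _ fun x => D.surj x

theorem res_eps : (dual k k).res (DualNumber.eps : DualNumber k) = 0 := rfl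

theorem eps_mul (a : DualNumber k) :
    (DualNumber.eps : DualNumber k) * a = a.fst • (DualNumber.eps : DualNumber k) := by
  refine TrivSqZeroExt.ext ?_ ?_ <;> simp [DualNumber.snd_mul]

theorem eq_fst_add_snd (a : DualNumber k) :
    a = algebraMap k (DualNumber k) a.fst + a.snd • (DualNumber.eps : DualNumber k) := by
  rw [← DualNumber.inr_eq_smul_eps]
  exact (TrivSqZeroExt.inl_fst_add_inr_snd_eq a).symm

theorem eq_eps_mul {a : DualNumber k} (h : a.fst = 0) :
    a = (DualNumber.eps : DualNumber k) * algebraMap k (DualNumber k) a.snd := by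
  refine TrivSqZeroExt.ext ?_ ?_
  · rw [TrivSqZeroExt.fst_mul, h]; simp
  · rw [DualNumber.snd_mul]; simp [TrivSqZeroExt.algebraMap_eq_inl]

theorem exists_eq_eps_mul_of_not_isUnit {a : DualNumber k} (h : ¬ IsUnit a) :
    ∃ b, a = (DualNumber.eps : DualNumber k) * b :=
  ⟨_, eq_eps_mul (by_contra fun h0 => h (TrivSqZeroExt.isUnit_iff_isUnit_fst.2 (isUnit_iff_ne_zero.2 h0)))⟩

theorem exists_eps_smul_eq {V : Type u} [AddCommGroup V] [Module (DualNumber k) V]
    [Module.Flat (DualNumber k) V] (v : V) (hv : (DualNumber.eps : DualNumber k) • v = 0) :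
    ∃ w : V, (DualNumber.eps : DualNumber k) • w = v := by
  obtain ⟨κ, a, y, hy, ha⟩ := Module.Flat.isTrivialRelation_of_sum_smul_eq_zero (R := DualNumber k)
    (f := fun _ : Fin 1 => (DualNumber.eps : DualNumber k)) (x := fun _ : Fin 1 => v) (by simpa using hv)
  refine ⟨∑ j, algebraMap k (DualNumber k) (a 0 j).snd • y j, ?_⟩
  rw [Finset.smul_sum, show v = _ from hy 0]
  refine Finset.sum_congr rfl fun j _ => ?_
  have h := ha j
  rw [Fin.sum_univ_one] at h
  have h0 : (a 0 j).fst = 0 := by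
    have := congrArg TrivSqZeroExt.snd h
    simpa [DualNumber.snd_mul] using this
  rw [← mul_smul, ← eq_eps_mul h0]

variable (hι : D.π ≫ ι = D.act (DualNumber.eps : DualNumber k))

include hι in
theorem ι_π : ι ≫ D.π = 0 := by
  haveI := epi_π D
  rw [← cancel_epi D.π, ← Category.assoc, hι, comp_zero]
  exact D.act_π _ res_eps

include hι in
theorem stalk_ι_π (x : X) (w : D.sheaf.presheaf.stalk x) :
    stalkMapM ι x (stalkMapM D.π x w) =
      RefHull.stalkMapₗ (D.act (DualNumber.eps : DualNumber k)) x w := by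
  rw [← stalkMap_comp, hι]
  rfl

theorem stalk_flat_ker (x : X) (v : D.sheaf.presheaf.stalk x)
    (hv : RefHull.stalkMapₗ (D.act (DualNumber.eps : DualNumber k)) x v = 0) :
    ∃ w : D.sheaf.presheaf.stalk x,
      RefHull.stalkMapₗ (D.act (DualNumber.eps : DualNumber k)) x w = v := by
  letI : Module (DualNumber k) (D.sheaf.presheaf.stalk x) := D.stalkMod x
  haveI : Module.Flat (DualNumber k) (D.sheaf.presheaf.stalk x) := D.flat x
  exact @exists_eps_smul_eq k _ (D.sheaf.presheaf.stalk x) _ (D.stalkMod x) (D.flat x) v hv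

include hι in
theorem stalk_ι_injective (x : X) : Function.Injective (stalkLinear ι x) := by
  refine (injective_iff_map_eq_zero _).mpr fun v hv => ?_
  obtain ⟨w, rfl⟩ := D.surj x v
  obtain ⟨w', rfl⟩ := stalk_flat_ker D x w ((stalk_ι_π D ι hι x w).symm.trans hv)
  change stalkMapM D.π x _ = 0
  rw [← stalk_ι_π D ι hι x w', ← stalkMap_comp, ι_π D ι hι]
  exact DefoSh.stalkMapₗ_zero_apply x _

include hι in
theorem stalk_exact (x : X) : Function.Exact (stalkLinear ι x) (stalkLinear D.π x) := by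
  intro v
  refine ⟨fun hv => ?_, ?_⟩
  · letI := D.stalkMod x
    have hmem := D.ker_le x v hv
    refine Submodule.smul_induction_on hmem (fun a ha w _ => ?_) fun a b ha hb => ?_
    · obtain ⟨b, hb⟩ := exists_eq_eps_mul_of_not_isUnit (k := k) (a := a)
        ((IsLocalRing.mem_maximalIdeal _).1 ha)
      refine ⟨stalkMapM D.π x (RefHull.stalkMapₗ (D.act b) x w), (stalk_ι_π D ι hι x _).trans ?_⟩
      letI := D.stalkMod x
      exact ((mul_smul (α := (dual k k : Type u)) _ b w).symm.trans (congrArg (· • w) hb.symm))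
    · obtain ⟨a', rfl⟩ := ha
      obtain ⟨b', rfl⟩ := hb
      exact ⟨a' + b', map_add _ a' b'⟩
  · rintro ⟨w, rfl⟩
    change stalkMapM D.π x (stalkMapM ι x w) = 0
    rw [← stalkMap_comp, ι_π D ι hι]
    exact DefoSh.stalkMapₗ_zero_apply x _

/-- `0 → E → D → E → 0`. -/
abbrev seq : ShortComplex X.Modules := ShortComplex.mk ι D.π (ι_π D ι hι)

theorem shortExact_seq : (seq D ι hι).ShortExact := by
  refine KRR40.shortExact_of_stalks _ fun x => ?_
  have hf : ∀ e, (SP x).map ι e = stalkLinear ι x e := SP_map_apply x ι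
  have hg : ∀ e, (SP x).map D.π e = stalkLinear D.π x e := SP_map_apply x D.π
  refine { exact := ?_, mono_f := ?_, epi_g := ?_ }
  · refine (ShortComplex.ShortExact.moduleCat_exact_iff_function_exact _).2 fun v => ?_
    change (SP x).map D.π v = 0 ↔ v ∈ Set.range ((SP x).map ι)
    rw [hg, show ⇑((SP x).map ι) = stalkLinear ι x from funext hf]
    exact stalk_exact D ι hι x v
  · refine (ModuleCat.mono_iff_injective _).2 ?_
    change Function.Injective ((SP x).map ι)
    rw [show ⇑((SP x).map ι) = stalkLinear ι x from funext hf]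
    exact stalk_ι_injective D ι hι x
  · refine (ModuleCat.epi_iff_surjective _).2 ?_
    change Function.Surjective ((SP x).map D.π)
    rw [show ⇑((SP x).map D.π) = stalkLinear D.π x from funext hg]
    exact D.surj x

variable (Ω' : X.Modules)

theorem tensorMap_ι_π :
    KoszTw.tensorMap ι (𝟙 Ω') ≫ KoszTw.tensorMap D.π (𝟙 Ω') = KoszTw.tensorMap (ι ≫ D.π) (𝟙 Ω') :=
  tensorMap_comp_id ι D.π

include hι in
theorem tensorMap_ι_π_zero :
    KoszTw.tensorMap ι (𝟙 Ω') ≫ KoszTw.tensorMap D.π (𝟙 Ω') = 0 := by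
  rw [tensorMap_ι_π, ι_π D ι hι, tensorMap_zero]

/-- `0 → E ⊗ Ω' → D ⊗ Ω' → E ⊗ Ω' → 0`. -/
abbrev seqT : ShortComplex X.Modules :=
  ShortComplex.mk (KoszTw.tensorMap ι (𝟙 Ω')) (KoszTw.tensorMap D.π (𝟙 Ω'))
    (tensorMap_ι_π_zero D ι hι Ω')

theorem SP_tensorMap {M N : X.Modules} (φ : M ⟶ N) (x : X)
    (z : (SP x).obj M ⊗[X.presheaf.stalk x] (SP x).obj Ω') :
    (SP x).map (KoszTw.tensorMap φ (𝟙 Ω')) (tensorStalk x M Ω' z) =
      tensorStalk x N Ω' (LinearMap.rTensor ((SP x).obj Ω') ((SP x).map φ).hom z) := by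
  rw [← KoszTw.tensorBi_map_app]
  exact (ConcreteCategory.congr_hom (tensorStalk_left x φ Ω') z).symm

theorem shortExact_seqT (hE : FlatMod.IsFinLocFree E) : (seqT D ι hι Ω').ShortExact := by
  refine KRR40.shortExact_of_stalks _ fun x => ?_
  let f := ((SP x).map ι).hom
  let g := ((SP x).map D.π).hom
  have hf : f = stalkLinear ι x := LinearMap.ext (SP_map_apply x ι)
  have hg : g = stalkLinear D.π x := LinearMap.ext (SP_map_apply x D.π)
  have hinj : Function.Injective f := hf ▸ stalk_ι_injective D ι hι x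
  have hex : Function.Exact f g := by rw [hf, hg]; exact stalk_exact D ι hι x
  have hsur : Function.Surjective g := hg ▸ D.surj x
  haveI : Module.Free (X.presheaf.stalk x) ((SP x).obj E) := FDesc60.free_stalk_of_isFinLocFree E hE x
  obtain ⟨s, hs⟩ := Module.projective_lifting_property g LinearMap.id hsur
  have hT := hex.split_tfae hinj hsur
  obtain ⟨r, hr⟩ : ∃ r, r ∘ₗ f = LinearMap.id := (hT.out 0 1 rfl rfl).1 ⟨s, hs⟩
  let Q := (SP x).obj Ω'
  have hb : ∀ M : X.Modules, Function.Bijective (tensorStalk x M Ω') := fun M =>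
    (ConcreteCategory.isIso_iff_bijective _).1 inferInstance
  refine { exact := ?_, mono_f := ?_, epi_g := ?_ }
  · refine (ShortComplex.ShortExact.moduleCat_exact_iff_function_exact _).2 fun v => ?_
    obtain ⟨z, rfl⟩ := (hb D.sheaf).2 v
    change (SP x).map (KoszTw.tensorMap D.π (𝟙 Ω')) _ = 0 ↔
      _ ∈ Set.range ((SP x).map (KoszTw.tensorMap ι (𝟙 Ω')))
    rw [SP_tensorMap]
    constructor
    · intro h
      obtain ⟨w, rfl⟩ := (rTensor_exact Q hex hsur z).1 ((hb E).1 (h.trans (map_zero _).symm))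
      exact ⟨_, SP_tensorMap Ω' ι x w⟩
    · rintro ⟨w, hw⟩
      obtain ⟨w, rfl⟩ := (hb E).2 w
      rw [SP_tensorMap] at hw
      rw [← (hb D.sheaf).1 hw]
      exact (congrArg _ ((rTensor_exact Q hex hsur).apply_apply_eq_zero w)).trans (map_zero _)
  · refine (ModuleCat.mono_iff_injective _).2 fun v v' h => ?_
    obtain ⟨w, rfl⟩ := (hb E).2 v
    obtain ⟨w', rfl⟩ := (hb E).2 v'
    change (SP x).map (KoszTw.tensorMap ι (𝟙 Ω')) _ = (SP x).map (KoszTw.tensorMap ι (𝟙 Ω')) _ at h
    rw [SP_tensorMap, SP_tensorMap] at h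
    refine congrArg _ ?_
    have h1 := congrArg (LinearMap.rTensor Q r) ((hb D.sheaf).1 h)
    rwa [← LinearMap.comp_apply, ← LinearMap.comp_apply, ← LinearMap.rTensor_comp, hr,
      LinearMap.rTensor_id] at h1
  · refine (ModuleCat.epi_iff_surjective _).2 fun v => ?_
    obtain ⟨w, rfl⟩ := (hb E).2 v
    obtain ⟨z, rfl⟩ := LinearMap.rTensor_surjective Q hsur w
    exact ⟨_, SP_tensorMap Ω' D.π x z⟩

end Groth.Agent.H98DefoConn

end
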