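import Groth.Agent.H98DefoConn.Seq

/-! Deformations of a connection over a fixed first-order deformation: a torsor under `Hom(E, E ⊗ Ω')`. -/

set_option autoImplicit false
set_option maxHeartbeats 400000
set_option backward.isDefEq.respectTransparency.types false

noncomputable section

universe u

open CategoryTheory Limits AlgebraicGeometry Opposite TopologicalSpace ArtFun ArtFun.Art

namespace Groth.Agent.H98DefoConn

section Lin

variable {X : Scheme.{u}} {M N P Q : X.Modules}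

local notation "Tos" => SheafOfModules.toSheaf X.ringCatSheaf

/-- `ConnSh.secApp`, typed on sections. -/
abbrev sec (f : Coh.toAb M ⟶ Coh.toAb N) (U : X.Opens) : Γ(M, U) →+ Γ(N, U) := ConnSh.secApp f U

theorem secApp_toSheaf (φ : M ⟶ N) (U : X.Opens) (e : Γ(M, U)) :
    sec ((Tos).map φ) U e = φ.app U e := rfl

theorem secApp_comp (f : Coh.toAb M ⟶ Coh.toAb N) (g : Coh.toAb N ⟶ Coh.toAb P) (U : X.Opens)
    (e : Γ(M, U)) : sec (f ≫ g) U e = sec g U (sec f U e) := rfl

theorem secApp_sub (f g : Coh.toAb M ⟶ Coh.toAb N) (U : X.Opens) (e : Γ(M, U)) :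
    sec (f - g) U e = sec f U e - sec g U e := rfl

theorem secApp_add (f g : Coh.toAb M ⟶ Coh.toAb N) (U : X.Opens) (e : Γ(M, U)) :
    sec (f + g) U e = sec f U e + sec g U e := rfl

theorem toAb_ext {f g : Coh.toAb M ⟶ Coh.toAb N}
    (h : ∀ (U : X.Opens) (e : Γ(M, U)), sec f U e = sec g U e) : f = g :=
  Sheaf.hom_ext (NatTrans.ext (funext fun U => ConcreteCategory.hom_ext _ _ (h U.unop)))

/-- An `O_X`-linear map of the underlying abelian sheaves is a morphism of modules. -/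
def linOf (f : Coh.toAb M ⟶ Coh.toAb N)
    (hf : ∀ (U : X.Opens) (t : Γ(X, U)) (e : Γ(M, U)),
      sec f U (t • e) = t • sec f U e) : M ⟶ N :=
  ⟨PresheafOfModules.homMk f.hom fun U r m => hf U.unop r m⟩

theorem app_eq_of_eq {f g : M ⟶ N} (h : f = g) (U : X.Opens) (e : Γ(M, U)) :
    f.app U e = g.app U e := by rw [h]

theorem toSheaf_linOf (f : Coh.toAb M ⟶ Coh.toAb N)
    (hf : ∀ (U : X.Opens) (t : Γ(X, U)) (e : Γ(M, U)),
      sec f U (t • e) = t • sec f U e) : (Tos).map (linOf f hf) = f := rfl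

end Lin

variable {k : Type u} [Field k] {X : Scheme.{u}} [X.Over (Spec (CommRingCat.of k))]
  {Ω' : X.Modules} {δ : OmegaSh.Der (X ↘ Spec (CommRingCat.of k)) Ω'}
  {E : X.Modules} {nabla : Coh.toAb E ⟶ Coh.toAb (CohB1.tensorMod E Ω')}
  {D : DefoSh.Defo E (dual k k)} {ι : E ⟶ D.sheaf}

local notation "Tos" => SheafOfModules.toSheaf X.ringCatSheaf
local notation "tι" => KoszTw.tensorMap ι (𝟙 Ω')
local notation "tπ" => KoszTw.tensorMap D.π (𝟙 Ω')

/-- The action, as morphisms. -/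
abbrev actHom (D : DefoSh.Defo E (dual k k)) (a : DualNumber k) : D.sheaf ⟶ D.sheaf := D.act a

theorem conn_smul (c : DefoSh.DefoConn δ nabla D) (U : X.Opens) (t : Γ(X, U)) (e : Γ(D.sheaf, U)) :
    sec c.conn U (t • e) =
      t • sec c.conn U e + Amp73.tm D.sheaf Ω' e (δ.app U t) :=
  c.isConn U t e

theorem conn_act (c : DefoSh.DefoConn δ nabla D) (a : DualNumber k) (U : X.Opens) (e : Γ(D.sheaf, U)) :
    sec c.conn U ((actHom D a).app U e) =
      (KoszTw.tensorMap (actHom D a) (𝟙 Ω')).app U (sec c.conn U e) :=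
  c.act_horizontal a U e

theorem conn_π (c : DefoSh.DefoConn δ nabla D) (U : X.Opens) (e : Γ(D.sheaf, U)) :
    sec nabla U (D.π.app U e) = (KoszTw.tensorMap D.π (𝟙 Ω')).app U (sec c.conn U e) :=
  c.π_horizontal U e

theorem act_π_eq (a : DualNumber k) : actHom D a ≫ D.π = a.fst • D.π := by
  have h : (dual k k).res (a - algebraMap k (DualNumber k) a.fst : DualNumber k) = 0 := by
    change TrivSqZeroExt.fst (a - algebraMap k (DualNumber k) a.fst) = 0
    simp [TrivSqZeroExt.algebraMap_eq_inl]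
  have h2 : actHom D _ ≫ D.π = 0 := D.act_π _ h
  have e : actHom D (a - algebraMap k (DualNumber k) a.fst : DualNumber k) =
      actHom D a - a.fst • 𝟙 D.sheaf :=
    (map_sub D.act a _).trans (congrArg (D.act a - ·) ((AlgHom.commutes D.act a.fst).trans
      (Algebra.algebraMap_eq_smul_one _)))
  rw [e, Preadditive.sub_comp, Linear.smul_comp, Category.id_comp] at h2
  exact sub_eq_zero.mp h2

variable (hι : D.π ≫ ι = D.act (DualNumber.eps : DualNumber k))

include hι in
theorem ι_act (a : DualNumber k) : ι ≫ actHom D a = a.fst • ι := by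
  haveI := epi_π D
  rw [← cancel_epi D.π, ← Category.assoc, Linear.comp_smul, hι]
  have h : D.act ((DualNumber.eps : DualNumber k) * a : DualNumber k) =
      a.fst • actHom D (DualNumber.eps : DualNumber k) := by
    rw [eps_mul]
    exact map_smul D.act a.fst (DualNumber.eps : DualNumber k)
  rw [← h, mul_comm]
  exact (map_mul D.act a (DualNumber.eps : DualNumber k)).symm

/-- The `O_X`-linear perturbation `π ≫ φ ≫ (ι ⊗ 1)`. -/
abbrev pert (φ : E ⟶ CohB1.tensorMod E Ω') : D.sheaf ⟶ CohB1.tensorMod D.sheaf Ω' :=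
  D.π ≫ φ ≫ KoszTw.tensorMap ι (𝟙 Ω')

include hι in
theorem act_pert (φ : E ⟶ CohB1.tensorMod E Ω') (a : DualNumber k) :
    actHom D a ≫ pert (ι := ι) φ = pert (ι := ι) φ ≫ KoszTw.tensorMap (actHom D a) (𝟙 Ω') := by
  simp only [pert, Category.assoc]
  rw [tensorMap_comp_id, ι_act hι, tensorMap_smul, Linear.comp_smul, Linear.comp_smul,
    ← Category.assoc, act_π_eq, Linear.smul_comp]

include hι in
theorem pert_π (φ : E ⟶ CohB1.tensorMod E Ω') :
    pert (ι := ι) φ ≫ KoszTw.tensorMap D.π (𝟙 Ω') = 0 := by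
  simp only [pert, Category.assoc, tensorMap_ι_π_zero D ι hι Ω', comp_zero]

/-- Perturb a deformation of the connection. -/
def addPert (c₀ : DefoSh.DefoConn δ nabla D) (φ : E ⟶ CohB1.tensorMod E Ω') :
    DefoSh.DefoConn δ nabla D where
  conn := c₀.conn + (Tos).map (pert (ι := ι) φ)
  isConn U t e := by
    change sec (c₀.conn + (Tos).map (pert (ι := ι) φ)) U (t • (e : Γ(D.sheaf, U))) =
      t • sec (c₀.conn + (Tos).map (pert (ι := ι) φ)) U e + Amp73.tm D.sheaf Ω' e (δ.app U t)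
    refine (congrArg₂ (· + ·) (conn_smul c₀ U t e)
      (Scheme.Modules.Hom.app_smul (pert (ι := ι) φ) t e)).trans ?_
    exact (add_right_comm _ _ _).trans (congrArg (· + _) (smul_add _ _ _).symm)
  act_horizontal a U e := by
    refine (congrArg₂ (· + ·) (conn_act c₀ a U e) ?_).trans (map_add _ _ _).symm
    exact app_eq_of_eq (act_pert hι φ a) U e
  π_horizontal U e := by
    refine (conn_π c₀ U e).trans (Eq.trans ?_ (map_add _ _ _).symm)
    exact (add_zero _).symm.trans (congrArg (_ + ·) (app_eq_of_eq (pert_π hι φ) U e).symm)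

theorem ext_conn {c c' : DefoSh.DefoConn δ nabla D} (h : c.conn = c'.conn) : c = c' := by
  cases c
  cases c'
  cases h
  rfl

theorem conn_sub_linear (c c₀ : DefoSh.DefoConn δ nabla D) (U : X.Opens) (t : Γ(X, U))
    (e : Γ(D.sheaf, U)) :
    sec (c.conn - c₀.conn) U (t • e) = t • sec (c.conn - c₀.conn) U e := by
  refine (congrArg₂ (· - ·) (conn_smul c U t e) (conn_smul c₀ U t e)).trans ?_
  exact (add_sub_add_right_eq_sub _ _ _).trans (smul_sub _ _ _).symm

include hι in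
theorem exists_pert (hE : FlatMod.IsFinLocFree E) (c c₀ : DefoSh.DefoConn δ nabla D) :
    ∃! φ : E ⟶ CohB1.tensorMod E Ω', c.conn - c₀.conn = (Tos).map (pert (ι := ι) φ) := by
  let d : D.sheaf ⟶ CohB1.tensorMod D.sheaf Ω' := linOf _ (conn_sub_linear c c₀)
  have hd : ∀ (U : X.Opens) (e : Γ(D.sheaf, U)),
      d.app U e = sec c.conn U e - sec c₀.conn U e := fun U e => rfl
  have hS := shortExact_seq D ι hι
  have hT := shortExact_seqT D ι hι Ω' hE
  haveI : Mono (KoszTw.tensorMap ι (𝟙 Ω')) := hT.mono_f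
  haveI := epi_π D
  have hπ : d ≫ KoszTw.tensorMap D.π (𝟙 Ω') = 0 := Scheme.Modules.hom_ext _ _ fun U => by
    ext e
    change (KoszTw.tensorMap D.π (𝟙 Ω')).app U (d.app U e) = 0
    rw [hd]
    refine (map_sub _ _ _).trans ?_
    rw [← conn_π c U e, ← conn_π c₀ U e, sub_self]
  have hact : ∀ a : DualNumber k, actHom D a ≫ d = d ≫ KoszTw.tensorMap (actHom D a) (𝟙 Ω') :=
    fun a => Scheme.Modules.hom_ext _ _ fun U => by
      ext e
      change d.app U ((actHom D a).app U e) = (KoszTw.tensorMap (actHom D a) (𝟙 Ω')).app U (d.app U e)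
      rw [hd, hd]
      refine Eq.trans ?_ (map_sub _ _ _).symm
      rw [conn_act c a U e, conn_act c₀ a U e]
  obtain ⟨d₁, hd₁⟩ : ∃ d₁ : D.sheaf ⟶ CohB1.tensorMod E Ω', d₁ ≫ KoszTw.tensorMap ι (𝟙 Ω') = d :=
    ⟨hT.exact.lift d hπ, hT.exact.lift_f d hπ⟩
  have h0 : ι ≫ d₁ = 0 := by
    rw [← cancel_epi D.π, ← cancel_mono (KoszTw.tensorMap ι (𝟙 Ω')), comp_zero, zero_comp,
      Category.assoc, Category.assoc, hd₁, ← Category.assoc, hι, hact, show actHom D _ = _ from hι.symm, ← tensorMap_comp_id,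
      ← Category.assoc, hπ, zero_comp]
  haveI : Epi (seq D ι hι).g := epi_π D
  obtain ⟨φ, hφ⟩ : ∃ φ : E ⟶ CohB1.tensorMod E Ω', D.π ≫ φ = d₁ :=
    ⟨hS.exact.desc d₁ h0, hS.exact.g_desc d₁ h0⟩
  refine ⟨φ, ?_, fun ψ hψ => ?_⟩
  · refine (toSheaf_linOf _ (conn_sub_linear c c₀)).symm.trans (congrArg (Tos).map ?_)
    rw [pert, ← Category.assoc, hφ, hd₁]
  · have h : pert (ι := ι) ψ = d :=
      (Tos).map_injective (hψ.symm.trans (toSheaf_linOf _ (conn_sub_linear c c₀)).symm)
    rw [← cancel_epi D.π, ← cancel_mono (KoszTw.tensorMap ι (𝟙 Ω')), hφ, hd₁, Category.assoc]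
    exact h

/-- The torsor structure. -/
def connEquiv (hE : FlatMod.IsFinLocFree E) (c₀ : DefoSh.DefoConn δ nabla D) :
    DefoSh.DefoConn δ nabla D ≃ (E ⟶ CohB1.tensorMod E Ω') where
  toFun c := (exists_pert hι hE c c₀).choose
  invFun φ := addPert hι c₀ φ
  left_inv c := ext_conn (by
    have h := (exists_pert hι hE c c₀).choose_spec.1
    change c₀.conn + _ = c.conn
    rw [← h, add_sub_cancel])
  right_inv φ := ((exists_pert hι hE (addPert hι c₀ φ) c₀).choose_spec.2 φ
    (add_sub_cancel_left c₀.conn _)).symm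

/-- The perturbation `π ≫ S ≫ ι` of the identity, as an automorphism of the deformation. -/
def autOf (S : E ⟶ E) : DefoSh.Defo.Iso D D where
  iso :=
    { hom := 𝟙 _ + D.π ≫ S ≫ ι
      inv := 𝟙 _ - D.π ≫ S ≫ ι
      hom_inv_id := by
        simp [Preadditive.comp_sub, Preadditive.add_comp, reassoc_of% (ι_π D ι hι)]
      inv_hom_id := by
        simp [Preadditive.comp_add, Preadditive.sub_comp, reassoc_of% (ι_π D ι hι)] }
  act_hom a := by
    change actHom D a ≫ (𝟙 _ + D.π ≫ S ≫ ι) = (𝟙 _ + D.π ≫ S ≫ ι) ≫ actHom D a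
    rw [Preadditive.comp_add, Preadditive.add_comp, Category.comp_id, Category.id_comp]
    refine congrArg (_ + ·) ?_
    simp only [Category.assoc, ι_act hι]
    rw [← Category.assoc, act_π_eq, Linear.comp_smul, Linear.comp_smul, Linear.smul_comp]
  hom_π := by
    change (𝟙 _ + D.π ≫ S ≫ ι) ≫ D.π = D.π
    simp [Preadditive.add_comp, ι_π D ι hι]

include hι in
theorem exists_eq_autOf (e : DefoSh.Defo.Iso D D) : ∃ S : E ⟶ E, e.iso.hom = 𝟙 _ + D.π ≫ S ≫ ι := by
  have hS := shortExact_seq D ι hι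
  haveI : Mono ι := hS.mono_f
  haveI := epi_π D
  haveI : Mono (seq D ι hι).f := hS.mono_f
  haveI : Epi (seq D ι hι).g := epi_π D
  let g := e.iso.hom - 𝟙 _
  have hg : g ≫ D.π = 0 := by simp [g, Preadditive.sub_comp, e.hom_π]
  obtain ⟨g₁, hg₁⟩ : ∃ g₁ : D.sheaf ⟶ E, g₁ ≫ ι = g :=
    ⟨hS.exact.lift g hg, hS.exact.lift_f g hg⟩
  have h0 : ι ≫ g₁ = 0 := by
    rw [← cancel_epi D.π, ← cancel_mono ι, comp_zero, zero_comp, Category.assoc, Category.assoc,
      hg₁, ← Category.assoc, hι]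
    have hc : actHom D (DualNumber.eps : DualNumber k) ≫ g =
        g ≫ actHom D (DualNumber.eps : DualNumber k) := by
      simp only [g, Preadditive.comp_sub, Preadditive.sub_comp, Category.comp_id, Category.id_comp]
      rw [e.act_hom]
    rw [hc, show actHom D _ = _ from hι.symm, ← Category.assoc, hg, zero_comp]
  obtain ⟨S, hS'⟩ : ∃ S : E ⟶ E, D.π ≫ S = g₁ := ⟨hS.exact.desc g₁ h0, hS.exact.g_desc g₁ h0⟩
  exact ⟨S, by rw [← Category.assoc, hS', hg₁, add_sub_cancel]⟩

include hι in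
theorem ι_conn (c : DefoSh.DefoConn δ nabla D) :
    (Tos).map ι ≫ c.conn = nabla ≫ (Tos).map (KoszTw.tensorMap ι (𝟙 Ω')) := by
  haveI := epi_π D
  haveI : Epi ((Tos).map D.π) := @Functor.map_epi _ _ _ _ (Tos) _ _ _ D.π (epi_π D)
  refine (cancel_epi ((Tos).map D.π)).1 (toAb_ext fun U e => ?_)
  change sec c.conn U (ι.app U (D.π.app U e)) =
    (KoszTw.tensorMap ι (𝟙 Ω')).app U (sec nabla U (D.π.app U e))
  rw [app_comp_apply D.π ι, show D.π ≫ ι = actHom D _ from hι, conn_act c _ U e, conn_π c U e,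
    app_comp_apply (KoszTw.tensorMap D.π (𝟙 Ω')), tensorMap_comp_id,
    show D.π ≫ ι = actHom D _ from hι]

include hι in
theorem transport_iff_aux (c c' : DefoSh.DefoConn δ nabla D) (S : E ⟶ E) :
    ConnSh.IsHorizontal c.conn c'.conn (𝟙 _ + D.π ≫ S ≫ ι) ↔
      c'.conn - c.conn = (Tos).map D.π ≫
        (nabla ≫ (Tos).map (KoszTw.tensorMap S (𝟙 Ω')) - (Tos).map S ≫ nabla) ≫
          (Tos).map (KoszTw.tensorMap ι (𝟙 Ω')) := by
  have key : ∀ (U : X.Opens) (e : Γ(D.sheaf, U)),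
      sec ((Tos).map D.π ≫
        (nabla ≫ (Tos).map (KoszTw.tensorMap S (𝟙 Ω')) - (Tos).map S ≫ nabla) ≫
          (Tos).map (KoszTw.tensorMap ι (𝟙 Ω'))) U e =
      (KoszTw.tensorMap (D.π ≫ S ≫ ι) (𝟙 Ω')).app U (sec c.conn U e) -
        sec c'.conn U ((D.π ≫ S ≫ ι).app U e) := fun U e => by
    rw [secApp_comp, secApp_comp, secApp_sub, map_sub, secApp_comp, secApp_comp, secApp_toSheaf,
      secApp_toSheaf, secApp_toSheaf, conn_π c U e, ← app_comp_apply D.π (S ≫ ι),
      ← app_comp_apply S ι, ← secApp_toSheaf ι U, ← secApp_comp ((Tos).map ι) c'.conn,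
      ι_conn hι c', secApp_comp, secApp_toSheaf, ← secApp_toSheaf (KoszTw.tensorMap ι (𝟙 Ω')),
      ← tensorMap_comp_id D.π (S ≫ ι), ← tensorMap_comp_id S ι]
    rfl
  have lhs : ∀ (U : X.Opens) (e : Γ(D.sheaf, U)),
      sec c'.conn U ((𝟙 _ + D.π ≫ S ≫ ι).app U e) =
        sec c'.conn U e + sec c'.conn U ((D.π ≫ S ≫ ι).app U e) :=
    fun U e => map_add (sec c'.conn U) e _
  have rhs : ∀ (U : X.Opens) (e : Γ(D.sheaf, U)),
      (KoszTw.tensorMap (𝟙 _ + D.π ≫ S ≫ ι) (𝟙 Ω')).app U (sec c.conn U e) =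
        sec c.conn U e +
          (KoszTw.tensorMap (D.π ≫ S ≫ ι) (𝟙 Ω')).app U (sec c.conn U e) := fun U e => by
    rw [tensorMap_add, KoszTw.tensorMap_id]
    rfl
  constructor
  · intro h
    refine toAb_ext fun U e => ?_
    rw [key, secApp_sub, sub_eq_sub_iff_add_eq_add, ← lhs, add_comm _ (sec c.conn U e),
      ← rhs]
    exact h U e
  · intro h U e
    have h' := (congrArg (fun f => sec f U e) h).trans (key U e)
    rw [secApp_sub, sub_eq_sub_iff_add_eq_add, ← lhs, add_comm _ (sec c.conn U e),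
      ← rhs] at h'
    exact h'

include hι in
theorem transport_iff (c c' : DefoSh.DefoConn δ nabla D) :
    DefoSh.DefoConn.Transport c c' ↔ ∃ S : E ⟶ E,
      c'.conn - c.conn = (Tos).map D.π ≫
        (nabla ≫ (Tos).map (KoszTw.tensorMap S (𝟙 Ω')) - (Tos).map S ≫ nabla) ≫
          (Tos).map (KoszTw.tensorMap ι (𝟙 Ω')) := by
  constructor
  · rintro ⟨e, he⟩
    obtain ⟨S, hS⟩ := exists_eq_autOf hι e
    exact ⟨S, (transport_iff_aux hι c c' S).1 (hS ▸ he)⟩
  · rintro ⟨S, hS⟩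
    exact ⟨autOf hι S, (transport_iff_aux hι c c' S).2 hS⟩

include hι in
theorem act_eq (a : DualNumber k) :
    actHom D a = a.fst • 𝟙 D.sheaf + D.π ≫ (a.snd • ι) := by
  rw [Linear.comp_smul, hι]
  have h := eq_fst_add_snd a
  conv_lhs => rw [h]
  exact (map_add D.act (algebraMap k (DualNumber k) a.fst : DualNumber k) _).trans
    (congrArg₂ (· + ·) ((AlgHom.commutes D.act a.fst).trans (Algebra.algebraMap_eq_smul_one _))
      (map_smul D.act a.snd (DualNumber.eps : DualNumber k)))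

theorem exists_ι (D : DefoSh.Defo E (dual k k)) :
    ∃ ι : E ⟶ D.sheaf, D.π ≫ ι = D.act (DualNumber.eps : DualNumber k) := by
  haveI := epi_π D
  refine ⟨(Abelian.epiDesc D.π (D.act (DualNumber.eps : DualNumber k)) ?_), Abelian.comp_epiDesc _ _ _⟩
  refine ((FlatMor68.PullbackDescent.zero_iff _).2 fun x v => ?_)
  rw [stalkMap_comp]
  have hk : RefHull.stalkMapₗ D.π x (QC70.stalkMapM (kernel.ι D.π) x v) = 0 := by
    change QC70.stalkMapM D.π x _ = 0
    rw [← stalkMap_comp, kernel.condition]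
    exact DefoSh.stalkMapₗ_zero_apply x _
  have hmem := D.ker_le x _ hk
  letI := D.stalkMod x
  refine Submodule.smul_induction_on (p := fun w => RefHull.stalkMapₗ
    (D.act (DualNumber.eps : DualNumber k)) x w = 0) hmem (fun a ha w _ => ?_) fun a b ha hb => ?_
  · obtain ⟨b, hb⟩ := exists_eq_eps_mul_of_not_isUnit (k := k) (a := a)
      ((IsLocalRing.mem_maximalIdeal _).1 ha)
    have h0 : ∀ a' : DualNumber k, a' = (DualNumber.eps : DualNumber k) * b →
        (DualNumber.eps : DualNumber k) * a' = 0 := by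
      rintro _ rfl
      rw [← mul_assoc, DualNumber.eps_mul_eps, zero_mul]
    refine ((mul_smul (α := (dual k k : Type u)) (DualNumber.eps : DualNumber k) a w).symm).trans ?_
    exact (congrArg (fun c : (dual k k : Type u) => c • w) (h0 a hb)).trans (@zero_smul (dual k k : Type u) _ _ _ _ w)
  · rw [map_add, ha, hb, add_zero]

end Groth.Agent.H98DefoConn

end
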